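import Groth.Agent.SiteCoh.Cartan
import Groth.Prelude

/-!
Čech cohomology seen on the coarse topology generated by a family of opens.
-/

set_option autoImplicit false
set_option linter.style.haveILetI false
set_option linter.unusedSectionVars false
set_option backward.isDefEq.respectTransparency false
set_option backward.isDefEq.respectTransparency.types false

universe u

open CategoryTheory Category Limits Opposite TopologicalSpace

namespace Groth.Agent.CechCoarse

open Groth.Agent.SiteCoh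

variable {X X' : TopCat.{u}}

theorem cechExact_transfer (Φ : Opens X' ⥤ Opens X) {ι : Type u} (V : ι → Opens X') (U : ι → Opens X)
    (hΦ : ∀ {n : ℕ} (a : Fin (n + 1) → ι), Φ.obj (tupleProd V a) = tupleProd U a)
    (P : (Opens X)ᵒᵖ ⥤ AddCommGrpCat.{u}) (n : ℕ) (h : CechExact V (Φ.op ⋙ P) n) : CechExact U P n := by
  let φ : ∀ {m : ℕ}, Cochain U P m → Cochain V (Φ.op ⋙ P) m := fun x a => P.map (eqToHom (hΦ a)).op (x a)
  let ψ : ∀ {m : ℕ}, Cochain V (Φ.op ⋙ P) m → Cochain U P m := fun x a => P.map (eqToHom (hΦ a).symm).op (x a)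
  have key : ∀ {A B C D : Opens X} (f : B ⟶ A) (g : C ⟶ B) (f' : D ⟶ A) (g' : C ⟶ D) (s : P.obj (op A)),
      P.map g.op (P.map f.op s) = P.map g'.op (P.map f'.op s) := fun f g f' g' s => by
    rw [← ConcreteCategory.comp_apply, ← P.map_comp, ← ConcreteCategory.comp_apply, ← P.map_comp]
    exact congrArg (fun q => P.map q s) (Quiver.Hom.unop_inj (Subsingleton.elim _ _))
  have hφ : ∀ {m : ℕ} (x : Cochain U P m), cd V (Φ.op ⋙ P) (φ x) = φ (cd U P x) := fun {m} x => funext fun a => by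
    change ∑ k : Fin (m + 2), (-1 : ℤ) ^ (k : ℕ) • P.map (Φ.map (tupleDrop V a k)).op (P.map (eqToHom (hΦ _)).op (x _)) =
      P.map (eqToHom (hΦ a)).op (∑ k : Fin (m + 2), (-1 : ℤ) ^ (k : ℕ) • P.map (tupleDrop U a k).op (x _))
    rw [map_sum]
    refine Finset.sum_congr rfl fun k _ => ?_
    rw [map_zsmul]
    exact congrArg _ (key _ _ _ _ _)
  have hψ : ∀ {m : ℕ} (x : Cochain V (Φ.op ⋙ P) m), cd U P (ψ x) = ψ (cd V (Φ.op ⋙ P) x) := fun {m} x => funext fun a => by
    change ∑ k : Fin (m + 2), (-1 : ℤ) ^ (k : ℕ) • P.map (tupleDrop U a k).op (P.map (eqToHom (hΦ _).symm).op (x _)) =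
      P.map (eqToHom (hΦ a).symm).op (∑ k : Fin (m + 2), (-1 : ℤ) ^ (k : ℕ) • P.map (Φ.map (tupleDrop V a k)).op (x _))
    rw [map_sum]
    refine Finset.sum_congr rfl fun k _ => ?_
    rw [map_zsmul]
    exact congrArg _ (key _ _ _ _ _)
  intro x hx
  obtain ⟨y, hy⟩ := h (φ x) (by
    rw [hφ, hx]
    funext a
    exact map_zero _)
  refine ⟨ψ y, ?_⟩
  rw [hψ, hy]
  funext a
  change P.map _ (P.map _ (x a)) = x a
  rw [← ConcreteCategory.comp_apply, ← P.map_comp, ← op_comp, eqToHom_trans, eqToHom_refl, op_id, P.map_id]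
  rfl

variable {ι : Type u} (U : ι → Opens X)

/-- The traces of the opens on their union. -/
def traces : Set (Set ↥(iSup U)) := Set.range fun i => (Subtype.val : ↥(iSup U) → X) ⁻¹' (U i : Set X)

/-- The points of the union, carrying the generated topology. -/
def CoarsePt : Type u := ↥(iSup U)

instance : TopologicalSpace (CoarsePt U) := generateFrom (traces U)

/-- The union of the opens with the topology they generate. -/
abbrev Coarse : TopCat.{u} := TopCat.of (CoarsePt U)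

/-- The opens, on the coarse space. -/
def cU (i : ι) : Opens (Coarse U) :=
  ⟨(fun x : CoarsePt U => (x : ↥(iSup U)).1) ⁻¹' (U i : Set X), GenerateOpen.basic _ ⟨i, rfl⟩⟩

/-- The identity to the coarse space. -/
def toCoarse : TopCat.of ↥(iSup U) ⟶ Coarse U :=
  TopCat.ofHom { toFun := fun x : ↥(iSup U) => (x : CoarsePt U), continuous_toFun := continuous_generateFrom_iff.2 (by
    rintro _ ⟨i, rfl⟩
    exact (U i).2.preimage continuous_subtype_val) }

/-- Opens of the coarse space as opens of the space. -/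
def back : Opens (Coarse U) ⥤ Opens X :=
  Opens.map (toCoarse U) ⋙ (iSup U).isOpenEmbedding.functor

theorem mem_back (W : Opens (Coarse U)) (x : X) :
    x ∈ (back U).obj W ↔ ∃ h : x ∈ iSup U, (⟨x, h⟩ : ↥(iSup U)) ∈ W :=
  ⟨by rintro ⟨y, hy, rfl⟩; exact ⟨y.2, hy⟩, fun ⟨h, hy⟩ => ⟨⟨x, h⟩, hy, rfl⟩⟩

theorem back_tupleProd {n : ℕ} (a : Fin (n + 1) → ι) :
    (back U).obj (tupleProd (cU U) a) = tupleProd U a := by
  rw [tupleProd_eq_iInf, tupleProd_eq_iInf]
  refine SetLike.ext fun x => ?_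
  rw [mem_back, ← SetLike.mem_coe (p := ⨅ k, U (a k)), Opens.coe_iInf, Set.mem_iInter]
  have e : ∀ y : CoarsePt U, y ∈ (⨅ k, cU U (a k) : Opens (CoarsePt U)) ↔ ∀ k, y ∈ cU U (a k) := fun y => by
    change y ∈ ((⨅ k, cU U (a k) : Opens (CoarsePt U)) : Set (CoarsePt U)) ↔ _
    rw [Opens.coe_iInf]
    exact Set.mem_iInter
  constructor
  · rintro ⟨h, hy⟩ k
    exact (e _).1 hy k
  · intro hx
    exact ⟨le_iSup U (a 0) (hx 0), (e _).2 hx⟩

theorem exists_inter_le {W : Set ↥(iSup U)} (hW : GenerateOpen (traces U) W) {x : ↥(iSup U)} (hx : x ∈ W) :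
    ∃ a : Σ p : ℕ, Fin (p + 1) → ι, (∀ j, (x : X) ∈ U (a.2 j)) ∧
      ∀ y : ↥(iSup U), (∀ j, (y : X) ∈ U (a.2 j)) → y ∈ W := by
  induction hW generalizing x with
  | basic s hs =>
    obtain ⟨i, rfl⟩ := hs
    exact ⟨⟨0, fun _ => i⟩, fun _ => hx, fun y hy => hy 0⟩
  | univ =>
    obtain ⟨i, hi⟩ := Opens.mem_iSup.1 x.2
    exact ⟨⟨0, fun _ => i⟩, fun _ => hi, fun y _ => trivial⟩
  | inter s t _ _ ihs iht =>
    obtain ⟨⟨p, a⟩, ha, has⟩ := ihs hx.1
    obtain ⟨⟨q, b⟩, hb, hbt⟩ := iht hx.2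
    let c : Fin (p + 1 + q + 1) → ι := Fin.append (m := p + 1) (n := q + 1) a b
    refine ⟨⟨p + 1 + q, c⟩, fun j => ?_, fun y hy => ⟨has y fun j => ?_, hbt y fun j => ?_⟩⟩
    · refine Fin.addCases (m := p + 1) (n := q + 1) (motive := fun j => x.1 ∈ U (c j)) (fun i => ?_) (fun i => ?_) j
      · simpa [c] using ha i
      · simpa [c] using hb i
    · simpa [c] using hy (Fin.castAdd (q + 1) j)
    · simpa [c] using hy (Fin.natAdd (p + 1) j)
  | sUnion S _ ih =>
    obtain ⟨s, hs, hxs⟩ := hx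
    obtain ⟨a, ha, has⟩ := ih s hs hxs
    exact ⟨a, ha, fun y hy => ⟨s, hs, has y hy⟩⟩

/-- The sheaf seen on the coarse space. -/
noncomputable def coarseSheaf (F : CohTop.Ab X) : CohTop.Ab (Coarse U) :=
  (CohTop.push (toCoarse U)).obj ((CohTop.restrFunctor (iSup U)).obj F)

theorem isFlasque_coarseSheaf (F : CohTop.Ab X)
    (h : ∀ (κ : Type u) (a : κ → Σ p : ℕ, Fin (p + 1) → ι) (hle : (⨆ k, ⨅ j, U ((a k).2 j)) ≤ iSup U),
      Function.Surjective (F.obj.map (homOfLE hle).op)) :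
    TopCat.Sheaf.IsFlasque (coarseSheaf U F) where
  epi {V W} i := by
    refine (AddCommGrpCat.epi_iff_surjective _).2 fun t => ?_
    let κ := {a : Σ p : ℕ, Fin (p + 1) → ι //
      ∀ y : CoarsePt U, (∀ j, y.1 ∈ U (a.2 j)) → y ∈ W.unop}
    have e : (back U).obj W.unop = ⨆ k : κ, ⨅ j, U (k.1.2 j) := by
      refine SetLike.ext fun x => ?_
      refine ((mem_back U W.unop x).trans ?_).trans Opens.mem_iSup.symm
      constructor
      · rintro ⟨hx, hW⟩
        obtain ⟨a, ha, haW⟩ := exists_inter_le U W.unop.isOpen hW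
        refine ⟨⟨a, haW⟩, ?_⟩
        change x ∈ ((⨅ j, U (a.2 j) : Opens X) : Set X)
        rw [Opens.coe_iInf]
        exact Set.mem_iInter.2 ha
      · rintro ⟨⟨a, haW⟩, hx⟩
        change x ∈ ((⨅ j, U (a.2 j) : Opens X) : Set X) at hx
        rw [Opens.coe_iInf, Set.mem_iInter] at hx
        exact ⟨le_iSup U (a.2 0) (hx 0), haW _ hx⟩
    have hV : (back U).obj V.unop ≤ iSup U := by
      rintro x ⟨y, -, rfl⟩
      exact y.2
    have hW : (⨆ k : κ, ⨅ j, U (k.1.2 j)) ≤ iSup U := fun x hx => by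
      rw [← e] at hx
      exact ((mem_back U _ x).1 hx).1
    obtain ⟨s, hs⟩ := h κ (fun k => k.1) hW (F.obj.map (eqToHom e.symm).op t)
    refine ⟨F.obj.map (homOfLE hV).op s, ?_⟩
    change F.obj.map ((back U).map i.unop).op (F.obj.map (homOfLE hV).op s) = t
    have hb : F.obj.map (eqToHom e).op (F.obj.map (eqToHom e.symm).op t) = t := by
      rw [← ConcreteCategory.comp_apply, ← F.obj.map_comp, ← op_comp, eqToHom_trans, eqToHom_refl, op_id,
        F.obj.map_id]
      rfl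
    rw [← hb, ← hs, ← ConcreteCategory.comp_apply, ← F.obj.map_comp, ← ConcreteCategory.comp_apply, ← F.obj.map_comp]
    rfl

end Groth.Agent.CechCoarse
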